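import Cfsg.Agent.H53.HC.ExcIM

/-!
# `p²` divides a character degree of `²E₆(q)`, `p` not dividing `q (q² + q + 1)`
-/

set_option autoImplicit false
set_option linter.unusedSectionVars false

namespace Cfsg.Agent.H531.Sq

open Cfsg Cfsg.Lie Cfsg.Agent.Nodes Cfsg.Agent.H53.HC Cfsg.Agent.H53.HC.ExcRows Cfsg.Agent.H35.ExcIdx Cfsg.Agent.H35.PoinNum
open CoxeterSystem Cfsg.Agent.ChevalleyStructure.CoxeterGeom Cfsg.Agent.Tits.Roots Cfsg.Agent.Tits.Core
  Cfsg.Agent.Tits.Exchange Cfsg.Agent.Nodes.Reps Cfsg.Agent.Nodes.BNOf Cfsg.Agent.Nodes.StabComb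
open Cfsg.Agent.Characters Cfsg.Agent.Nodes.LeviDec

universe u

theorem un4b : Un m4 1 2 3 := by decide +kernel
theorem or4b : Or m4 [2, 3] [0] := by decide +kernel
theorem compl4b : ({i | i ≠ 1} : Set (Fin 4)) = {2, 3} ∪ {0} := by
  ext i
  simp only [Set.mem_ofPred_eq, Set.mem_union, Set.mem_insert_iff, Set.mem_singleton_iff]
  revert i; decide

/-- the degree up to small factors -/
def DD (q : ℕ) : ℕ := (q ^ 2 - 1) * (q ^ 5 + 1) * (q ^ 8 - 1) * (q ^ 9 + 1) * (q ^ 12 - 1)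

/-- **Arithmetic of the degree.** -/
theorem DD_dvd {p q : ℕ} (hp : p.Prime) (hq : 2 ≤ q) (hpq : ¬ p ∣ q) (h3 : ¬ p ∣ q ^ 2 + q + 1) (hd : p ^ 2 ∣ PT q) :
    (p ≠ 3 → p ^ 2 ∣ DD q) ∧ (p = 3 → p ^ 5 ∣ DD q) := by
  have hPT : PT q = DD q * (q ^ 6 - 1) := by unfold PT DD; ring
  have hdvd : ∀ n : ℕ, p ∣ q + 1 → Odd n → p ∣ q ^ n + 1 := by
    intro n h hn
    have := hn.nat_add_dvd_pow_add_pow q 1
    rw [one_pow] at this
    exact h.trans this
  have hev : ∀ n m : ℕ, n ∣ m → p ∣ q ^ n - 1 → p ∣ q ^ m - 1 := fun n m h h1 => h1.trans (Nat.pow_sub_one_dvd_pow_sub_one q h)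
  have hplus : p ∣ q + 1 → p ^ 5 ∣ DD q := by
    intro h
    have h2 : p ∣ q ^ 2 - 1 := by
      have : q ^ 2 - 1 = (q + 1) * (q - 1) := by
        have := Nat.sq_sub_sq q 1
        simpa using this
      rw [this]
      exact Dvd.dvd.mul_right h _
    have e : p ^ 5 = p * p * p * p * p := by ring
    rw [e]
    exact mul_dvd_mul (mul_dvd_mul (mul_dvd_mul (mul_dvd_mul h2 (hdvd 5 h (by decide))) (hev 2 8 (by norm_num) h2))
      (hdvd 9 h (by decide))) (hev 2 12 (by norm_num) h2)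
  constructor
  · intro hp3
    by_cases h6 : p ∣ q ^ 6 - 1
    · have h7 : q ^ 6 - 1 = (q - 1) * (q + 1) * (q ^ 2 + q + 1) * (q ^ 2 - q + 1) := by
        obtain ⟨x, rfl⟩ := Nat.exists_eq_add_of_le hq
        have e1 : (2 + x) ^ 2 - (2 + x) = (2 + x) * (1 + x) := by
          apply Nat.sub_eq_of_eq_add; ring
        have e2 : (2 + x) - 1 = 1 + x := by omega
        rw [e1, e2]
        apply Nat.sub_eq_of_eq_add
        ring
      rw [h7] at h6
      rcases hp.dvd_mul.1 h6 with h8 | h8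
      · rcases hp.dvd_mul.1 h8 with h8 | h8
        · rcases hp.dvd_mul.1 h8 with h8 | h8
          · have h2 : p ∣ q ^ 2 - 1 := hev 1 2 (by norm_num) (by rwa [pow_one])
            have e : p ^ 2 = p * 1 * 1 * 1 * p := by ring
            rw [e]
            exact mul_dvd_mul (mul_dvd_mul (mul_dvd_mul (mul_dvd_mul h2 (one_dvd _)) (one_dvd _)) (one_dvd _))
              (hev 2 12 (by norm_num) h2)
          · exact (pow_dvd_pow p (by norm_num)).trans (hplus h8)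
        · exact absurd h8 h3
      · have h9 : p ∣ q ^ 3 + 1 := by
          have : q ^ 3 + 1 = (q + 1) * (q ^ 2 - q + 1) := by
            obtain ⟨x, rfl⟩ := Nat.exists_eq_add_of_le hq
            have e1 : (2 + x) ^ 2 - (2 + x) = (2 + x) * (1 + x) := by
              apply Nat.sub_eq_of_eq_add; ring
            rw [e1]
            ring
          rw [this]
          exact Dvd.dvd.mul_left h8 _
        have h10 : p ∣ q ^ 9 + 1 := by
          have := (by decide : Odd 3).nat_add_dvd_pow_add_pow (q ^ 3) 1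
          rw [one_pow, ← pow_mul] at this
          exact h9.trans this
        have h11 : p ∣ q ^ 6 - 1 := by rw [h7]; exact h6
        have e : p ^ 2 = 1 * 1 * 1 * p * p := by ring
        rw [e]
        exact mul_dvd_mul (mul_dvd_mul (mul_dvd_mul (mul_dvd_mul (one_dvd _) (one_dvd _)) (one_dvd _)) h10)
          (hev 6 12 (by norm_num) h11)
    · rw [hPT] at hd
      exact Nat.Coprime.dvd_of_dvd_mul_right (Nat.Coprime.pow_left 2 ((Nat.Prime.coprime_iff_not_dvd hp).2 h6)) hd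
  · rintro rfl
    apply hplus
    have h1 : q % 3 = 0 ∨ q % 3 = 1 ∨ q % 3 = 2 := by omega
    rcases h1 with h1 | h1 | h1
    · exact absurd (Nat.dvd_of_mod_eq_zero h1) hpq
    · exfalso
      apply h3
      apply Nat.dvd_of_mod_eq_zero
      rw [Nat.add_mod, Nat.add_mod (q ^ 2), Nat.pow_mod, h1]
    · omega

section

variable {K : Type u} [Field K] [Fintype K] {q : ℕ} {φ : K →+* K} {r f : ℕ} (hr : r.Prime) (hf : f ≠ 0) (hq : q = r ^ f)
  [CharP K r] (hφ : ∀ x, φ x = x ^ q) (hqq : ∀ t : K, (t ^ q) ^ q = t) (hK : Fintype.card K = q ^ 2)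

include hr hf hq hφ hqq hK in
/-- the index of `P_J`, `J = {0, 2, 3}` -/
theorem index_tw1 :
    (PJ CoxeterMatrix.F₄.toCoxeterSystem RGDTwE6.isCartan (RGDTwE6.T K q) (RGDTwE6.X φ q) {j | j ≠ 1}).index *
      ((q - 1) * (q ^ 2 - 1) * (q ^ 4 - 1)) = DD q ∧
    Nat.gcd 3 (q + 1) * Nat.card ↥(twistedE6 K q) = r ^ (f * 36) * PT q := by
  have : Fact r.Prime := ⟨hr⟩
  have h2 : 2 ≤ q := by rw [hq]; exact two_le hr hf
  have hpp : IsPrimePow q := by rw [hq]; exact hr.isPrimePow.pow hf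
  have hfin : Finite CoxeterMatrix.F₄.Group := RGDFold.finite_W (hp := RGDTwE6.hp)
    CoxeterMatrix.F₄.toCoxeterSystem RGDTwE6.isCartan RGDTwE6.foldData
  have hfg : Finite ↥(twistedE6 K q) := by
    have : Finite (GL chevE6.Idx K) := by
      have : Finite (Matrix chevE6.Idx chevE6.Idx K) := inferInstance
      infer_instance
    infer_instance
  have D := data_TwE6_1 hr hf hq hφ hqq hK
  have hR := D.rgd
  have hP : ¬ r ∣ PT q := by
    intro h3
    have h4 : r ∣ pr q [2, 6, 8, 10, 12, 18] := by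
      rw [← PT_mul (by omega)]; exact Dvd.dvd.mul_right h3 _
    rw [hq] at h4
    exact not_dvd_pr hr hf _ (by simp) h4
  have hT : Nat.gcd 3 (q + 1) * Nat.card ↥(RGDTwE6.T K q) = (q - 1) ^ 4 * (q + 1) ^ 2 := by
    rw [← Cfsg.Agent.S1102.result hpp hK]
    congr 1
    exact Nat.card_congr (Subgroup.subgroupOfEquivOfLe inf_le_right).toEquiv
  have hd : ¬ r ∣ Nat.gcd 3 (q + 1) := by
    intro h3
    have h4 : r ∣ q + 1 := h3.trans (Nat.gcd_dvd_right _ _)
    have h5 : r ∣ q := by rw [hq]; exact dvd_pow_self r hf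
    exact hr.one_lt.ne' (Nat.dvd_one.1 ((Nat.dvd_add_right h5).1 h4))
  have hS : Nat.gcd 3 (q + 1) * Nat.card ↥(twistedE6 K q) = r ^ (f * 36) * PT q := by
    rw [Cfsg.Agent.S1066.result hpp hK, pow_mul, ← hq]
    unfold PT
    ring
  refine ⟨?_, hS⟩
  have hJ : ({j | j ≠ 1} : Set (Fin 4)) = {j | j ∈ ([0, 2, 3] : List (Fin 4))} := by
    ext j; revert j; decide
  have hN : Nat.card ↥(PJ CoxeterMatrix.F₄.toCoxeterSystem RGDTwE6.isCartan (RGDTwE6.T K q) (RGDTwE6.X φ q) {j | j ≠ 1}) =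
      FA 1 q * (FA 2 (q ^ 2) * 1) *
        Nat.card ↥(RGD.B CoxeterMatrix.F₄.toCoxeterSystem RGDTwE6.isCartan (RGDTwE6.T K q) (RGDTwE6.X φ q)) := by
    rw [hJ]
    refine card_step hR path_T_2 (fun i hi => ?_) (card_step hR path_T_3 (fun i hi => ?_) (card_nil hR))
    · rw [D.size]; revert i; simp [fE]
    · rw [D.size]; revert i; simp [fE]
  have h6 := index_eq hR D.gg hN hd hT hS hP
  obtain ⟨e1, e2, e3, e4⟩ := fac (q := q) (by omega)
  have h7 : (PJ CoxeterMatrix.F₄.toCoxeterSystem RGDTwE6.isCartan (RGDTwE6.T K q) (RGDTwE6.X φ q) {j | j ≠ 1}).index *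
      ((q - 1) * (q ^ 2 - 1) * (q ^ 4 - 1)) * (q ^ 6 - 1) = DD q * (q ^ 6 - 1) := by
    have hPT : PT q = DD q * (q ^ 6 - 1) := by unfold PT DD; ring
    rw [← hPT, ← h6]
    simp only [FA, Finset.prod_range_succ, Finset.prod_range_zero, Finset.sum_range_succ, Finset.sum_range_zero]
    rw [e1, e3, e4]
    ring
  refine Nat.eq_of_mul_eq_mul_right ?_ h7
  have := Nat.one_lt_pow (n := 6) (by norm_num) (show 1 < q by omega)
  omega

include hr hf hq hφ hqq hK in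
/-- **`p²` divides a character degree of `²E₆(q)`**, `p` odd, not dividing `q² + q + 1`. -/
theorem sq_twE6 (hs : IsSimpleGroup ↥(twistedE6 K q)) {p : ℕ} (hp : p.Prime) (hp2 : p ≠ 2) (h3 : ¬ p ∣ q ^ 2 + q + 1)
    (hd : p ^ 2 ∣ Nat.card ↥(twistedE6 K q)) : H33.IM (p ^ 2) ↥(twistedE6 K q) := by
  classical
  have hfg : Finite ↥(twistedE6 K q) := by
    have : Finite (GL chevE6.Idx K) := by
      have : Finite (Matrix chevE6.Idx chevE6.Idx K) := inferInstance
      infer_instance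
    infer_instance
  have h2 : 2 ≤ q := by rw [hq]; exact two_le hr hf
  have D := data_TwE6_1 hr hf hq hφ hqq hK
  have := D.fin
  by_cases hpr : p = r
  · subst hpr
    exact ExcIM.im_pow hr (by norm_num) D hd
  have : Fintype ↥(twistedE6 K q) := Fintype.ofFinite _
  obtain ⟨θ, hθ, hns, d, t1, hd1, hdt1, ht1⟩ := H622.Levi.inA2 D.rgd (k₀ := 2) (k₁ := 3) (by decide +kernel) (D.size 2)
  obtain ⟨θ', e, t2, hθ', he, het2, ht2⟩ := H622.Levi.cusp_node D.rgd 0 1 (by decide +kernel) (D.size 0)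
  have hmem : ∀ i, i ∈ ({i | i ≠ 1} : Set (Fin 4)) ↔ i ≠ 1 := fun i => Iff.rfl
  have hk0J : (2 : Fin 4) ∈ ({i | i ≠ 1} : Set (Fin 4)) := by rw [compl4b]; simp
  have hk1J : (3 : Fin 4) ∈ ({i | i ≠ 1} : Set (Fin 4)) := by rw [compl4b]; simp
  have ho : ∀ i ∈ ({2, 3} : Set (Fin 4)), ∀ i' ∈ ({0} : Set (Fin 4)), CoxeterMatrix.F₄ i i' = 2 := by
    intro i hi i' hi'
    exact or4b i (by simpa using hi) i' (by simpa using hi')
  have hC := RGDTwE6.isCartan
  obtain ⟨χ, hχ, k, hk0', hχ1⟩ := exists_irr_one D.rgd D.gg hmem compl4b (orth_of hC ho) rfl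
    (isoPair_of hC hk0J hk1J (by decide +kernel) fun c hc hc0 hc1 => by
      rw [compl4b] at hc
      rcases hc with hc | hc
      · rcases hc with rfl | rfl
        · exact absurd rfl hc0
        · exact absurd rfl hc1
      · exact ⟨ho _ (by simp) c hc, ho _ (by simp) c hc⟩)
    (cartan_two hC (by decide +kernel)).1 (not_three_dvd hC (by decide +kernel))
    (fun a b hab => by
      obtain ⟨h1, h2, h3, h4⟩ := of_isoPair hC hab
      exact un4b a b h1 h2 h3 h4)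
    hθ hns hθ'
  obtain ⟨hidx, hS⟩ := index_tw1 hr hf hq hφ hqq hK
  set idx := (PJ CoxeterMatrix.F₄.toCoxeterSystem RGDTwE6.isCartan (RGDTwE6.T K q) (RGDTwE6.X φ q) {j | j ≠ 1}).index
    with hidx'
  refine ⟨⟨χ, hχ⟩, ?_⟩
  have k1 := Cfsg.Agent.Blocks.Basic.irr_one_eq_charDegree hχ
  have hdeg : charDegree χ = idx * (k * (d * e)) := by
    have : ((charDegree χ : ℕ) : ℂ) = ((idx * (k * (d * e)) : ℕ) : ℂ) := by
      rw [← k1, hχ1, hd1, he]
      push_cast
      ring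
    exact_mod_cast this
  have hfq : fE q 2 = q ^ 2 := by simp [fE]
  have hfq0 : fE q 0 = q := by simp [fE]
  rw [hfq] at hdt1
  rw [hfq0] at het2 ht2
  have hmain : charDegree χ * t1 * t2 = k * DD q := by
    rw [hdeg, ← hidx]
    have : (q ^ 2) ^ 2 = q ^ 4 := by ring
    rw [this] at hdt1
    calc idx * (k * (d * e)) * t1 * t2 = idx * k * (d * t1) * (e * t2) := by ring
      _ = _ := by rw [hdt1, het2]; ring
  have hpq : ¬ p ∣ q := by
    intro h
    rw [hq] at h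
    exact hpr ((Nat.prime_dvd_prime_iff_eq hp hr).1 (hp.dvd_of_dvd_pow h))
  have hdPT : p ^ 2 ∣ PT q := by
    have h4 : p ^ 2 ∣ r ^ (f * 36) * PT q := by rw [← hS]; exact Dvd.dvd.mul_left hd _
    refine Nat.Coprime.dvd_of_dvd_mul_left ?_ h4
    exact Nat.Coprime.pow_left 2 (Nat.Coprime.pow_right _ ((Nat.coprime_primes hp hr).2 hpr))
  obtain ⟨hA, hB⟩ := DD_dvd hp h2 hpq h3 hdPT
  have ht2' : Nat.Coprime (p ^ 2) t2 := by
    refine Nat.Coprime.pow_left 2 ((Nat.Prime.coprime_iff_not_dvd hp).2 fun h => ?_)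
    have h5 := (h.trans ht2).trans (Nat.gcd_dvd_left 2 _)
    exact hp2 ((Nat.prime_dvd_prime_iff_eq hp Nat.prime_two).1 h5)
  by_cases hp3 : p = 3
  · have h5 : p ^ 5 ∣ charDegree χ * t1 * t2 := by rw [hmain]; exact Dvd.dvd.mul_left (hB hp3) _
    have h6 : charDegree χ * t1 * t2 ∣ charDegree χ * 3 * 2 :=
      mul_dvd_mul (mul_dvd_mul_left _ ht1) (ht2.trans (Nat.gcd_dvd_left 2 _))
    have h7 := h5.trans h6
    subst hp3
    change 3 ^ 2 ∣ charDegree χ
    clear * - h7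
    omega
  · have h5 : p ^ 2 ∣ charDegree χ * t1 * t2 := by rw [hmain]; exact Dvd.dvd.mul_left (hA hp3) _
    have h6 := Nat.Coprime.dvd_of_dvd_mul_right ht2' h5
    refine Nat.Coprime.dvd_of_dvd_mul_right ?_ h6
    refine Nat.Coprime.pow_left 2 ((Nat.Prime.coprime_iff_not_dvd hp).2 fun h => ?_)
    exact hp3 ((Nat.prime_dvd_prime_iff_eq hp Nat.prime_three).1 (h.trans ht1))

end

/-- **The row `²E₆`**, given the case `p ∣ q² + q + 1`. -/
theorem sq_2e6_of {p : ℕ} [hp : Fact p.Prime]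
    (hrest : ∀ (K : Type) [Field K] [Fintype K] (q r f : ℕ) (φ : K →+* K), r.Prime → f ≠ 0 → q = r ^ f → CharP K r →
      (∀ x, φ x = x ^ q) → (∀ t : K, (t ^ q) ^ q = t) → Fintype.card K = q ^ 2 → IsSimpleGroup ↥(twistedE6 K q) →
      p ∣ q ^ 2 + q + 1 → p ^ 2 ∣ Nat.card ↥(twistedE6 K q) → H33.IM (p ^ 2) ↥(twistedE6 K q))
    {S : Type u} [Group S] [Finite S] (h : Lie.Iso2E6 S) (hs : IsSimpleGroup S) (hp2 : p ≠ 2)
    (hd : p ^ 2 ∣ Nat.card S) : H33.IM (p ^ 2) S := by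
  obtain ⟨K, _, _, q, hq, hK, ⟨e⟩⟩ := h
  obtain ⟨r, f, hr, hf, hqf⟩ := (isPrimePow_nat_iff q).1 hq
  have hch : CharP K r := by
    obtain ⟨r', g, hr', hg, hK', hch⟩ := ExcIM.exists_prime_pow K
    have h1 : r' = r := by
      have h2 : r' ∣ r ^ (f * 2) := by
        rw [pow_mul, hqf, ← hK, hK']
        exact dvd_pow_self _ hg
      exact (Nat.prime_dvd_prime_iff_eq hr' hr).1 (hr'.dvd_of_dvd_pow h2)
    rwa [h1] at hch
  obtain ⟨φ, hφ, hqq⟩ := Cfsg.Agent.ChevalleyStructure.TwE6Basic.exists_frob hq hK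
  have hs' := ExcIM.simple_congr e hs
  have hd' : p ^ 2 ∣ Nat.card ↥(twistedE6 K q) := by rwa [← Nat.card_congr e.toEquiv]
  refine H33.IM.of_equiv e ?_
  by_cases h3 : p ∣ q ^ 2 + q + 1
  · exact hrest K q r f φ hr hf.ne' hqf.symm hch hφ hqq hK hs' h3 hd'
  · exact sq_twE6 hr hf.ne' hqf.symm hφ hqq hK hs' hp.out hp2 h3 hd'

end Cfsg.Agent.H531.Sq
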